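import Cfsg.Agent.GH3.Defs
import Cfsg.Agent.H44.Cores
import Cfsg.Agent.S0044

/-! Solvable groups of order dividing `|A₈|` without normal 2-subgroup (notes/GH3.md). -/

set_option autoImplicit false

universe u v

namespace Cfsg.Agent.GH3

open Subgroup Cfsg.Agent.H49 Cfsg.Agent.SR4 Equiv
open Cfsg.Agent.H42 (SylIn)
open Cfsg.Agent.X32 (P O act be oe Be St)

variable {G : Type u} [Group G] [Finite G]

namespace L0

theorem comm_cent {N : Subgroup G} [N.Normal] (h : IsCyclic N) : commutator G ≤ 𝒞(N) := by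
  let _ := (h.mulAutMulEquiv _).toMonoidHom.commGroupOfInjective (h.mulAutMulEquiv _).injective
  intro g hg x hx
  have := Abelianization.commutator_subset_ker (MulAut.conjNormal (H := N)) hg
  have h1 := congrArg Subtype.val (DFunLike.congr_fun (MonoidHom.mem_ker.1 this) ⟨x, hx⟩)
  exact (mul_inv_eq_iff_eq_mul.1 h1).symm

end L0

theorem l0_dich (hs : Group.IsSolvable G) (h2 : Cfsg.pCore 2 G = ⊥) (hd : Nat.card G ∣ 20160) :
    Nat.card (Cfsg.pCore 3 G) = 9 ∨ Odd (Nat.card (commutator G)) := by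
  refine or_iff_not_imp_left.2 fun h9 => ?_
  have : Fact (Nat.Prime 2) := ⟨Nat.prime_two⟩
  have h1 : commutator G ≤ 𝒞(fittingSubgroup G) := by
    rw [le_centralizer_iff, H44.fitting_eq_iSup_pCore]
    refine iSup_le fun ⟨p, hp⟩ => le_centralizer_iff.1 (L0.comm_cent ?_)
    have hp' := Nat.prime_of_mem_primeFactors hp
    have := Fact.mk hp'
    by_cases e2 : p = 2
    · subst e2
      change IsCyclic (pCore 2 G)
      rw [h2]; infer_instance
    obtain ⟨k, hk⟩ := IsPGroup.iff_card.1 (H44.pCore_isPGroup (p := p) (G := G))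
    have h3 : p ^ k ∣ 20160 := hk ▸ (card_subgroup_dvd_card _).trans hd
    refine isCyclic_of_card_dvd_prime (p := p) ?_
    change Nat.card (pCore p G) ∣ p
    rw [hk]
    by_contra h4
    have k2 : 2 ≤ k := by
      by_contra h
      have : k ≤ 1 := by omega
      exact h4 ((pow_dvd_pow p this).trans (pow_one p).dvd)
    have h5 := (pow_dvd_pow p k2).trans h3
    have h6 : p ∣ 2 ^ 6 * 3 ^ 2 * 5 * 7 := (dvd_pow_self p two_ne_zero).trans h5
    rcases (Nat.Prime.dvd_mul hp').1 h6 with h | h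
    · rcases (Nat.Prime.dvd_mul hp').1 h with h | h
      · rcases (Nat.Prime.dvd_mul hp').1 h with h | h
        · exact e2 ((Nat.prime_dvd_prime_iff_eq hp' Nat.prime_two).1 (hp'.dvd_of_dvd_pow h))
        · obtain rfl := (Nat.prime_dvd_prime_iff_eq hp' Nat.prime_three).1 (hp'.dvd_of_dvd_pow h)
          rcases k2.eq_or_lt with rfl | k3
          · exact h9 hk
          · exact absurd ((pow_dvd_pow 3 k3).trans h3) (by norm_num)
      · obtain rfl := (Nat.prime_dvd_prime_iff_eq hp' Nat.prime_five).1 h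
        exact absurd h5 (by norm_num)
    · obtain rfl := (Nat.prime_dvd_prime_iff_eq hp' (by norm_num)).1 h
      exact absurd h5 (by norm_num)
  have h3 := (h1.trans S0044.result).trans (H44.fitting_le_pCore_sup_pPrimeCore (p := 2))
  rw [h2, bot_sup_eq] at h3
  exact Nat.coprime_two_right.1 (H44.coprime_of_le_pPrimeCore h3)

theorem l0 (hs : Group.IsSolvable G) (h2 : Cfsg.pCore 2 G = ⊥) (hd : Nat.card G ∣ 20160) {V : Subgroup G}
    (hV : IsPGroup 2 V) {ρ : G} (hρ : ρ ∈ 𝒩(V)) (h3 : PEl 3 ρ) : ρ ∈ 𝒞(V) := by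
  have : Fact (Nat.Prime 2) := ⟨Nat.prime_two⟩
  have : Fact (Nat.Prime 3) := ⟨Nat.prime_three⟩
  intro v hv
  have m : v⁻¹ * (ρ * v * ρ⁻¹) ∈ V := mul_mem (inv_mem hv) (conj_mem_of_norm le_rfl hρ hv)
  suffices h : v⁻¹ * (ρ * v * ρ⁻¹) = 1 by
    rw [inv_mul_eq_one, eq_mul_inv_iff_mul_eq] at h
    exact h
  rcases l0_dich hs h2 hd with h | h
  · have hz : IsPGroup 3 (zpowers ρ) := fun y => by
      obtain ⟨a, ha⟩ := h3
      obtain ⟨k, hk⟩ := mem_zpowers_iff.1 y.2
      exact ⟨a, Subtype.ext (by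
        rw [coe_pow, ← hk, ← zpow_natCast, ← zpow_mul, mul_comm, zpow_mul, zpow_natCast, ha, one_zpow, coe_one])⟩
    have hs := IsPGroup.to_sup_of_normal_right hz (H44.pCore_isPGroup (p := 3) (G := G))
    have e : pCore 3 G = zpowers ρ ⊔ pCore 3 G := by
      refine eq_of_le_of_card_ge le_sup_right ?_
      obtain ⟨k, hk⟩ := IsPGroup.iff_card.1 hs
      have h4 : 3 ^ k ∣ 20160 := hk ▸ (card_subgroup_dvd_card _).trans hd
      rw [h, hk]
      by_contra h5
      have : 3 ≤ k := by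
        by_contra h6
        exact h5 (Nat.pow_le_pow_right (by norm_num) (show k ≤ 2 by omega))
      exact absurd ((pow_dvd_pow 3 this).trans h4) (by norm_num)
    have hr : ρ ∈ pCore 3 G := e ▸ mem_sup_left (mem_zpowers ρ)
    have m' : v⁻¹ * (ρ * v * ρ⁻¹) ∈ pCore 3 G := by
      have := mul_mem (Normal.conj_mem inferInstance _ hr v⁻¹) (inv_mem hr)
      simpa [mul_assoc] using this
    exact disjoint_def.1 (IsPGroup.disjoint_of_ne 2 3 (by norm_num) _ _ hV H44.pCore_isPGroup) m m'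
  · have m' : v⁻¹ * (ρ * v * ρ⁻¹) ∈ commutator G := by
      have := commutator_mem_commutator (mem_top v⁻¹) (mem_top ρ)
      rw [commutator_def]
      simpa [commutatorElement_def, mul_assoc] using this
    exact disjoint_def.1 (H44.disjoint_of_isPGroup_of_coprime hV (Nat.coprime_two_right.2 h)) m m'

end Cfsg.Agent.GH3
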