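import Cfsg.Agent.GH3.PrL
import Cfsg.Agent.H10.SU2

/-! A quaternion group in `PSU₄(q)` whose involution has a nonsolvable centraliser (notes/GH3.md). -/

set_option autoImplicit false

universe u v

namespace Cfsg.Agent.GH3

open Subgroup Cfsg.Agent.H49 Cfsg.Agent.SR4 Equiv
open Cfsg.Agent.H42 (SylIn)
open Cfsg.Agent.X32 (P O act be oe Be St)
open scoped MatrixGroups

variable {G : Type u} [Group G] [Finite G]

namespace PrU

variable {F : Type v} [Field F] {q : ℕ}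

theorem bl_mem {a b : SL(2, F)} (ha : a ∈ SU 2 F q) (hb : b ∈ SU 2 F q) : PrL.bl F (a, b) ∈ SU 4 F q := by
  intro u v
  have h1 := ha ![u 0, u 1] ![v 0, v 1]
  have h2 := hb ![u 2, u 3] ![v 2, v 3]
  change hermForm 4 F q ((PrL.bl F (a, b) : Matrix (Fin 4) (Fin 4) F).mulVec u) ((PrL.bl F (a, b) : Matrix (Fin 4) (Fin 4) F).mulVec v) = _
  change hermForm 2 F q ((a : Matrix (Fin 2) (Fin 2) F).mulVec _) ((a : Matrix (Fin 2) (Fin 2) F).mulVec _) = _ at h1
  change hermForm 2 F q ((b : Matrix (Fin 2) (Fin 2) F).mulVec _) ((b : Matrix (Fin 2) (Fin 2) F).mulVec _) = _ at h2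
  rw [PrL.coe_bl]
  simp [hermForm, Matrix.mulVec, dotProduct, Fin.sum_univ_succ] at h1 h2 ⊢
  linear_combination h1 + h2

theorem sw_mem : PrL.sw F ∈ SU 4 F q := by
  intro u v
  change hermForm 4 F q ((PrL.sw F : Matrix (Fin 4) (Fin 4) F).mulVec u) ((PrL.sw F : Matrix (Fin 4) (Fin 4) F).mulVec v) = _
  simp [PrL.sw, hermForm, Matrix.mulVec, dotProduct, Fin.sum_univ_succ]
  ring

end PrU

theorem prune_U4 {F : Type v} [Field F] [Fintype F] {q : ℕ} (hF : Fintype.card F = q ^ 2) (hq : q % 4 = 1) :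
    ∃ i j : Cfsg.PSU 4 F q, i * i = j * j ∧ j * i * j⁻¹ = i⁻¹ ∧ i * i ≠ 1 ∧
      ¬ Group.IsSolvable ↥𝒞[i * i] := by
  have : Fact (Fintype.card F = q ^ 2) := ⟨hF⟩
  have := Fintype.ofFinite (H10.fixedSubfield F q)
  have hK : Fintype.card (H10.fixedSubfield F q) = q := by
    rw [← Nat.card_eq_fintype_card, H10.card_fixedSubfield]
  have h2 := H10.two_le_q F q
  obtain ⟨e⟩ := H10.nonempty_SU_two_equiv (F := F) hK
  obtain ⟨a, b, h1, h3, h4⟩ := PrL.exists_q8 (F := H10.fixedSubfield F q) (by omega)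
  let β : SU 2 F q × SU 2 F q →* SU 4 F q :=
    ((PrL.bl F).comp ((SU 2 F q).subtype.prodMap (SU 2 F q).subtype)).codRestrict _ fun x =>
      PrU.bl_mem x.1.2 x.2.2
  refine PrL.of_prod β (fun a b h e => ?_) (fun hs => PrL.not_solv (F := H10.fixedSubfield F q) (by omega)
    (Group.isSolvable_of_surjective (f := e.toMonoidHom) e.surjective)) (a := e.symm a) (b := e.symm b)
    (by rw [← map_mul, ← map_mul, h1]) (by rw [← map_inv, ← map_inv, ← map_mul, ← map_mul, h3])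
    (by rw [← map_mul]; exact (map_ne_one_iff _ e.symm.injective).2 h4)
  obtain rfl : a = b := Subtype.ext
    (PrL.eq_of_sw (congrArg Subtype.val (mem_center_iff.1 h ⟨_, PrU.sw_mem⟩)))
  exact ⟨e.elim id id, e.elim id id⟩

end Cfsg.Agent.GH3
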