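import Cfsg.Agent.GH3.Defs
import Cfsg.Agent.H22.SL2Mult

/-! A quaternion group in `PSL₄(q)` whose involution has a nonsolvable centraliser (notes/GH3.md). -/

set_option autoImplicit false

universe u v

namespace Cfsg.Agent.GH3

open Subgroup Cfsg.Agent.H49 Cfsg.Agent.SR4 Equiv
open Cfsg.Agent.H42 (SylIn)
open Cfsg.Agent.X32 (P O act be oe Be St)
open scoped MatrixGroups

variable {G : Type u} [Group G] [Finite G]

namespace PrL

theorem of_prod {K M : Type*} [Group K] [Group M] (β : K × K →* M)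
    (h : ∀ a b, β (a, b) ∈ center M → a = 1 ∨ b = 1 → a = 1 ∧ b = 1) (hK : ¬ Group.IsSolvable K)
    {a b : K} (h1 : a * a = b * b) (h2 : b * a * b⁻¹ = a⁻¹) (h3 : a * a ≠ 1) :
    ∃ i j : M ⧸ center M, i * i = j * j ∧ j * i * j⁻¹ = i⁻¹ ∧ i * i ≠ 1 ∧
      ¬ Group.IsSolvable ↥𝒞[i * i] := by
  let f : K × K →* M ⧸ center M := (QuotientGroup.mk' _).comp β
  have hf : ∀ a b, f (a, b) = 1 → a = 1 ∨ b = 1 → a = 1 ∧ b = 1 := fun a b e =>
    h a b ((QuotientGroup.eq_one_iff _).1 e)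
  refine ⟨f (a, 1), f (b, 1), by simp only [← map_mul, Prod.mk_mul_mk, h1], by
    simp only [← map_mul, ← map_inv, Prod.mk_mul_mk, Prod.inv_mk, h2, inv_one, mul_one], fun e => ?_,
    fun hs => hK ?_⟩
  · rw [← map_mul, Prod.mk_mul_mk, mul_one] at e
    exact h3 (hf _ _ e (.inr rfl)).1
  · let g : K →* 𝒞[f (a, 1) * f (a, 1)] := (f.comp (MonoidHom.inr K K)).codRestrict _ fun k =>
      mem_cent1.2 (by simp [← map_mul])
    exact Group.isSolvable_of_isSolvable_injective (f := g) ((injective_iff_map_eq_one g).2 fun k e =>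
      (hf 1 k (congrArg Subtype.val e) (.inl rfl)).2)

variable {F : Type v} [Field F]

/-- block diagonal matrices -/
def bl (F : Type v) [Field F] : SL(2, F) × SL(2, F) →* SL(4, F) := MonoidHom.mk'
  (fun x => ⟨!![x.1 0 0, x.1 0 1, 0, 0; x.1 1 0, x.1 1 1, 0, 0; 0, 0, x.2 0 0, x.2 0 1;
      0, 0, x.2 1 0, x.2 1 1], by
    have h1 := x.1.2
    have h2 := x.2.2
    rw [Matrix.det_fin_two] at h1 h2
    simp [Matrix.det_succ_row_zero, Fin.sum_univ_succ, Fin.succAbove]
    linear_combination (x.2.1 0 0 * x.2.1 1 1 - x.2.1 0 1 * x.2.1 1 0) * h1 + h2⟩)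
  fun x y => Subtype.ext (by
    refine Eq.trans ?_ (Matrix.SpecialLinearGroup.coe_mul _ _).symm
    ext i j
    fin_cases i <;> fin_cases j <;> simp [Matrix.mul_apply, Fin.sum_univ_succ])

theorem coe_bl (a b : SL(2, F)) : (bl F (a, b) : Matrix (Fin 4) (Fin 4) F) =
    !![a 0 0, a 0 1, 0, 0; a 1 0, a 1 1, 0, 0; 0, 0, b 0 0, b 0 1; 0, 0, b 1 0, b 1 1] := rfl

/-- the permutation matrix exchanging the two blocks -/
def sw (F : Type v) [Field F] : SL(4, F) := ⟨!![0, 0, 1, 0; 0, 0, 0, 1; 1, 0, 0, 0; 0, 1, 0, 0], by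
  simp [Matrix.det_succ_row_zero, Fin.sum_univ_succ, Fin.succAbove]⟩

theorem eq_of_sw {a b : SL(2, F)} (h : sw F * bl F (a, b) = bl F (a, b) * sw F) : a = b := by
  have h1 := congrArg Subtype.val h
  rw [Matrix.SpecialLinearGroup.coe_mul, Matrix.SpecialLinearGroup.coe_mul, coe_bl] at h1
  have h2 := fun i j => congrFun (congrFun h1 i) j
  ext i j
  fin_cases i <;> fin_cases j
  · simpa [sw, Matrix.mul_apply, Fin.sum_univ_succ] using h2 2 0
  · simpa [sw, Matrix.mul_apply, Fin.sum_univ_succ] using h2 2 1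
  · simpa [sw, Matrix.mul_apply, Fin.sum_univ_succ] using h2 3 0
  · simpa [sw, Matrix.mul_apply, Fin.sum_univ_succ] using h2 3 1

theorem exists_q8 [Fintype F] (h : Fintype.card F % 2 = 1) :
    ∃ a b : SL(2, F), a * a = b * b ∧ b * a * b⁻¹ = a⁻¹ ∧ a * a ≠ 1 := by
  classical
  have h2 : (2 : F) ≠ 0 := fun e => by
    have := FiniteField.even_card_of_char_two (F := F) (ringChar.eq_iff.2 (CharTwo.of_one_ne_zero_of_two_eq_zero one_ne_zero e))
    omega
  obtain ⟨x, y, hxy⟩ : ∃ x y : F, x ^ 2 + y ^ 2 = -1 := by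
    obtain ⟨x, y, e⟩ := FiniteField.exists_root_sum_quadratic (f := Polynomial.X ^ 2 + 1)
      (g := (Polynomial.X ^ 2 : Polynomial F))
      (by compute_degree!) (by compute_degree!) h
    exact ⟨x, y, by simp at e; linear_combination e⟩
  let a : SL(2, F) := ⟨!![0, -1; 1, 0], by simp⟩
  let b : SL(2, F) := ⟨!![x, y; y, -x], by simp; linear_combination -hxy⟩
  refine ⟨a, b, Subtype.ext ?_, mul_inv_eq_iff_eq_mul.2 (eq_inv_mul_iff_mul_eq.2 (Subtype.ext ?_)),
    fun e => h2 ?_⟩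
  · rw [Matrix.SpecialLinearGroup.coe_mul, Matrix.SpecialLinearGroup.coe_mul]
    ext i j
    fin_cases i <;> fin_cases j <;> simp [a, b, Matrix.mul_apply, Fin.sum_univ_succ] <;>
      first | ring1 | linear_combination -hxy
  · rw [Matrix.SpecialLinearGroup.coe_mul, Matrix.SpecialLinearGroup.coe_mul]
    ext i j
    fin_cases i <;> fin_cases j <;> simp [a, b, Matrix.mul_apply, Fin.sum_univ_succ]
  · have := congrFun (congrFun (congrArg Subtype.val e) 0) 0
    rw [Matrix.SpecialLinearGroup.coe_mul] at this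
    simp [a, Matrix.mul_apply, Fin.sum_univ_succ] at this
    linear_combination -this

theorem not_solv [Fintype F] (h : 3 < Fintype.card F) : ¬ Group.IsSolvable SL(2, F) := fun hs => by
  have := H22.sl2_perfect h
  have : Nontrivial SL(2, F) := ⟨⟨⟨!![1, 1; 0, 1], by simp⟩, 1, fun e => by
    simpa using congrFun (congrFun (congrArg Subtype.val e) 0) 1⟩⟩
  exact (Group.IsSolvable.commutator_lt_top_of_nontrivial SL(2, F)).ne
    Group.IsPerfect.commutator_eq_top

end PrL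

theorem prune_L4 {F : Type v} [Field F] [Fintype F] (hq : Fintype.card F % 4 = 3) (h3 : Fintype.card F ≠ 3) :
    ∃ i j : Matrix.ProjectiveSpecialLinearGroup (Fin 4) F, i * i = j * j ∧ j * i * j⁻¹ = i⁻¹ ∧ i * i ≠ 1 ∧
      ¬ Group.IsSolvable ↥𝒞[i * i] := by
  obtain ⟨a, b, h1, h2, h4⟩ := PrL.exists_q8 (F := F) (by omega)
  refine PrL.of_prod (PrL.bl F) (fun a b h e => ?_) (PrL.not_solv (by omega)) h1 h2 h4
  obtain rfl := PrL.eq_of_sw (mem_center_iff.1 h _)
  exact ⟨e.elim id id, e.elim id id⟩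

end Cfsg.Agent.GH3
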